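import Groth.Agent.Sga7.H783.LT

/-!
# Cocycles with values in `𝔾_a` and `𝔾_m` along an affine covering of a one-point affine base

`P` an affine, flat, surjective scheme over `S = Spec K`, `δ : P ⊗ P ⟶ 𝔾_a` (resp. `𝔾_m`) with
`δ(x,y) + δ(y,z) = δ(x,z)`.  Then `δ(x,y) = f(x) - f(y)` for a morphism `f : P ⟶ 𝔾_a`.
-/

set_option autoImplicit false
universe u

open CategoryTheory MonoidalCategory CartesianMonoidalCategory MonObj GrpObj AlgebraicGeometry Limits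

namespace K400.Cob

open Groth.Agent.Fdesc.LocGen Groth.Agent.Picfga.LineFam Groth.Agent.Picfga.LineHom
  Groth.Agent.Picfga.LineDescent Groth.Agent.Pic13.H964 Groth.Agent.Sga3B.GaPts Groth.Agent.Sga3B.DSPts
  Groth.Agent.Sga7.H783.LT

variable {S : Scheme.{u}} {P : Over S}

/-- The three projections of the triple product. -/
noncomputable abbrev q12 (P : Over S) : P ⊗ (P ⊗ P) ⟶ P ⊗ P := lift (fst P (P ⊗ P)) (snd P (P ⊗ P) ≫ fst P P)

/-- The three projections of the triple product. -/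
noncomputable abbrev q13 (P : Over S) : P ⊗ (P ⊗ P) ⟶ P ⊗ P := lift (fst P (P ⊗ P)) (snd P (P ⊗ P) ≫ snd P P)

theorem isPullback_H (P : Over S) : IsPullback (fst P P).left (snd P P).left P.hom P.hom :=
  IsPullback.of_hasPullback P.hom P.hom

theorem isPullback_H3 (P : Over S) : IsPullback (fst P (P ⊗ P)).left (snd P (P ⊗ P)).left P.hom
    ((fst P P).left ≫ P.hom) :=
  IsPullback.of_hasPullback P.hom (P ⊗ P).hom

theorem exists_of_univ {Q : Over S} [GrpObj Q] (δ : P ⊗ P ⟶ Q) (f : P ⟶ Q)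
    (h : fst P P ≫ f = δ * (snd P P ≫ f)) (T : Over S) (x y : T ⟶ P) :
    x ≫ f = (lift x y ≫ δ) * (y ≫ f) := by
  have h1 := congrArg (fun g => lift x y ≫ g) h
  simp only [MonObj.comp_mul, ← Category.assoc, lift_fst, lift_snd] at h1
  exact h1

/-- Additive cocycles are coboundaries. -/
theorem exists_ga [Flat P.hom] [Surjective P.hom] [IsAffineHom P.hom] (hS : IsAffineOpen (⊤ : S.Opens))
    (δ : P ⊗ P ⟶ Red.Ga S)
    (hδ : ∀ (T : Over S) (x y z : T ⟶ P), (lift x y ≫ δ) * (lift y z ≫ δ) = lift x z ≫ δ) :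
    ∃ f : P ⟶ Red.Ga S, ∀ (T : Over S) (x y : T ⟶ P), x ≫ f = (lift x y ≫ δ) * (y ≫ f) := by
  let u : Γ((P ⊗ P).left, (fst P P).left ⁻¹ᵁ P.hom ⁻¹ᵁ ⊤) := ores le_top (Red.gaFn δ)
  obtain ⟨m, hm⟩ := Groth.Agent.Sga7.H783.AddCobSch.exists_add_coboundary (q₁₂ := (q12 P).left)
    (q₁₃ := (q13 P).left) (isPullback_H P) (isPullback_H3 P) (by rw [← Over.comp_left, lift_fst])
    (by rw [← Over.comp_left, ← Over.comp_left, lift_snd])
    (by rw [← Over.comp_left, lift_fst])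
    (by rw [← Over.comp_left, ← Over.comp_left, lift_snd]) hS u (by
      intro N h
      rw [fn_ores, fn_ores, fn_ores]
      refine (congrArg₂ (· + ·) (fn_gaFn _ _ N) (fn_gaFn _ _ N)).trans (Eq.trans ?_ (fn_gaFn _ _ N).symm)
      rw [← map_add, ← gaFn_mul]
      congr 2
      have := hδ _ (fst P (P ⊗ P)) (snd P (P ⊗ P) ≫ fst P P) (snd P (P ⊗ P) ≫ snd P P)
      rw [← this]
      congr 2
      rw [← comp_lift, lift_fst_snd, Category.comp_id])
  have hle : (⊤ : P.left.Opens) ≤ P.hom ⁻¹ᵁ ⊤ := le_of_eq rfl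
  have hle2 : (⊤ : (P ⊗ P).left.Opens) ≤ (fst P P).left ⁻¹ᵁ P.hom ⁻¹ᵁ ⊤ := le_of_eq rfl
  refine ⟨gaPt P (ores hle m), exists_of_univ _ _ ?_⟩
  apply gaFn_injective
  have h1 := hm ⊤ hle2
  have e1 : ∀ (x : P ⊗ P ⟶ P), Red.gaFn (x ≫ gaPt P (ores hle m)) = fn x.left (le_of_eq rfl : (⊤ : (P ⊗ P).left.Opens) ≤ x.left ⁻¹ᵁ P.hom ⁻¹ᵁ ⊤) m := by
    intro x
    rw [gaFn_comp, gaFn_gaPt, ← ores_refl (x.left.appTop _)]
    exact fn_ores x.left hle le_top m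
  rw [gaFn_mul, e1, e1]
  refine h1.trans ?_
  congr 1
  exact (ores_ores _ _ _).trans (ores_refl _)

/-- Multiplicative cocycles are coboundaries over a one-point base. -/
theorem exists_gm [Flat P.hom] [Surjective P.hom] [IsAffineHom P.hom] [Nonempty S] [Subsingleton S]
    (δ : P ⊗ P ⟶ Red.Gm S)
    (hδ : ∀ (T : Over S) (x y z : T ⟶ P), (lift x y ≫ δ) * (lift y z ≫ δ) = lift x z ≫ δ) :
    ∃ f : P ⟶ Red.Gm S, ∀ (T : Over S) (x y : T ⟶ P), x ≫ f = (lift x y ≫ δ) * (y ≫ f) := by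
  let u : Γ((P ⊗ P).left, (fst P P).left ⁻¹ᵁ P.hom ⁻¹ᵁ ⊤) := ores le_top (Red.gmFn δ)
  have hu : IsUnit u := (isUnit_gmFn _).map _
  obtain ⟨s⟩ := ‹Nonempty S›
  obtain ⟨W, hWU, m, hsW, hmu, hm⟩ := K2.exists_coboundary (q₁₂ := (q12 P).left)
    (q₁₃ := (q13 P).left) (isPullback_H P) (isPullback_H3 P) (by rw [← Over.comp_left, lift_fst])
    (by rw [← Over.comp_left, ← Over.comp_left, lift_snd])
    (by rw [← Over.comp_left, lift_fst])
    (by rw [← Over.comp_left, ← Over.comp_left, lift_snd]) u hu (by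
      intro N h
      rw [fn_ores, fn_ores, fn_ores]
      refine (congrArg₂ (· * ·) (fn_gmFn _ _ N) (fn_gmFn _ _ N)).trans (Eq.trans ?_ (fn_gmFn _ _ N).symm)
      rw [← map_mul, ← gmFn_mul]
      congr 2
      have := hδ _ (fst P (P ⊗ P)) (snd P (P ⊗ P) ≫ fst P P) (snd P (P ⊗ P) ≫ snd P P)
      rw [← this]
      congr 2
      rw [← comp_lift, lift_fst_snd, Category.comp_id]) (x := s) trivial
  obtain rfl : W = ⊤ := by
    ext t
    rw [Subsingleton.elim t s]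
    exact ⟨fun _ => trivial, fun _ => hsW⟩
  have hle : (⊤ : P.left.Opens) ≤ P.hom ⁻¹ᵁ ⊤ := le_of_eq rfl
  have hle2 : (⊤ : (P ⊗ P).left.Opens) ≤ (fst P P).left ⁻¹ᵁ P.hom ⁻¹ᵁ ⊤ := le_of_eq rfl
  have hmu' : IsUnit (ores hle m) := hmu.map _
  refine ⟨gmPt P hmu'.unit, exists_of_univ _ _ ?_⟩
  apply gmFn_injective
  have h1 := hm ⊤ hle2
  have e1 : ∀ (x : P ⊗ P ⟶ P), Red.gmFn (x ≫ gmPt P hmu'.unit) =
      fn x.left (le_of_eq rfl : (⊤ : (P ⊗ P).left.Opens) ≤ x.left ⁻¹ᵁ P.hom ⁻¹ᵁ ⊤) m := by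
    intro x
    rw [gmFn_comp, gmFn_gmPt, IsUnit.unit_spec, ← ores_refl (x.left.appTop _)]
    exact fn_ores x.left hle le_top m
  rw [gmFn_mul, e1, e1]
  refine h1.trans ?_
  congr 1
  exact (ores_ores _ _ _).trans (ores_refl _)

end K400.Cob
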