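import Groth.Prelude.Def_AlgGrp
import Mathlib.AlgebraicGeometry.Morphisms.FlatDescent
import Mathlib.AlgebraicGeometry.Group.Smooth

/-!
# Basic fpqc facts for group schemes over a base (points form)

* `isIso_of_cover`: a monomorphism of `S`-schemes through which an fpqc cover factors is an isomorphism.
* `kernel_iff`: the points of a kernel.
* `exists_local_lift`: points lift along a flat surjective quasi-compact morphism after an fpqc cover.
* `mono_of_points`: a homomorphism injective on points is a monomorphism.
-/

set_option autoImplicit false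
universe u
open CategoryTheory MonoidalCategory CartesianMonoidalCategory MonObj GrpObj AlgebraicGeometry Limits

namespace K400.Basic

variable {S : Scheme.{u}}

/-- A monomorphism of `S`-schemes through which an fpqc cover of the target factors is an isomorphism. -/
theorem isIso_of_cover {C C' T : Over S} (f : C ⟶ C') [Mono f] (p : T ⟶ C') [Flat p.left] [Surjective p.left]
    [QuasiCompact p.left] (s : T ⟶ C) (h : s ≫ f = p) : IsIso f := by
  have hm : Mono f.left := Over.mono_left_of_mono f
  have h' : s.left ≫ f.left = p.left := by rw [← Over.comp_left, h]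
  have h1 : pullback.lift (𝟙 T.left) s.left (by rw [Category.id_comp, h']) ≫ pullback.fst p.left f.left = 𝟙 _ :=
    pullback.lift_fst _ _ _
  have h2 : IsSplitEpi (pullback.fst p.left f.left) := ⟨⟨⟨_, h1⟩⟩⟩
  have h3 : IsIso (pullback.fst p.left f.left) := isIso_of_mono_of_isSplitEpi _
  have h4 : IsIso f.left := by
    have := MorphismProperty.of_pullback_fst_of_descendsAlong (P := MorphismProperty.isomorphisms Scheme.{u})
      (Q := @Surjective ⊓ @Flat ⊓ @QuasiCompact) (f := p.left) (g := f.left)
      ⟨⟨inferInstance, inferInstance⟩, inferInstance⟩ h3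
    exact this
  have : IsIso ((Over.forget S).map f) := h4
  exact isIso_of_reflects_iso f (Over.forget S)

/-- The points of a kernel. -/
theorem kernel_iff {N G Q : Over S} [GrpObj G] [GrpObj Q] {i : N ⟶ G} {q : G ⟶ Q}
    (h : AlgGrp.IsKernel i q) {T : Over S} (x : T ⟶ G) : x ≫ q = 1 ↔ ∃ c : T ⟶ N, c ≫ i = x := by
  constructor
  · intro hx
    exact ⟨h.lift x (toUnit T) (by rw [hx]; rfl), h.lift_fst _ _ _⟩
  · rintro ⟨c, rfl⟩
    rw [Category.assoc, h.w, ← Category.assoc, toUnit_unique (c ≫ toUnit N) (toUnit T)]
    rfl

theorem kernel_comp {N G Q : Over S} [GrpObj G] [GrpObj Q] {i : N ⟶ G} {q : G ⟶ Q}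
    (h : AlgGrp.IsKernel i q) {T : Over S} (c : T ⟶ N) : (c ≫ i) ≫ q = 1 :=
  (kernel_iff h _).2 ⟨c, rfl⟩

theorem kernel_mono {N G Q : Over S} [GrpObj Q] {i : N ⟶ G} {q : G ⟶ Q}
    (h : AlgGrp.IsKernel i q) : Mono i := by
  constructor
  intro T a b hab
  exact h.hom_ext hab (toUnit_unique _ _)

/-- A homomorphism of group objects with trivial kernel on points is a monomorphism. -/
theorem mono_of_points {G H : Over S} [GrpObj G] [GrpObj H] (f : G ⟶ H) [IsMonHom f]
    (h : ∀ (T : Over S) (x : T ⟶ G), x ≫ f = 1 → x = 1) : Mono f := by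
  constructor
  intro T a b hab
  have h1 : (a * b⁻¹) ≫ f = 1 := by
    rw [MonObj.mul_comp, GrpObj.inv_comp, hab, mul_inv_cancel]
  have h2 := h T _ h1
  rwa [mul_inv_eq_one] at h2

/-- Points lift fpqc-locally along a flat surjective quasi-compact morphism. -/
theorem exists_local_lift {G Q : Over S} (q : G ⟶ Q) [Flat q.left] [Surjective q.left] [QuasiCompact q.left]
    {T : Over S} (x : T ⟶ Q) : ∃ (T' : Over S) (p : T' ⟶ T) (y : T' ⟶ G), Flat p.left ∧ Surjective p.left ∧
      QuasiCompact p.left ∧ p ≫ x = y ≫ q := by
  let T' : Over S := Over.mk (pullback.fst x.left q.left ≫ T.hom)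
  let p : T' ⟶ T := Over.homMk (pullback.fst x.left q.left) rfl
  let y : T' ⟶ G := Over.homMk (pullback.snd x.left q.left) (by
    dsimp [T']
    rw [← Over.w q, ← pullback.condition_assoc, Over.w])
  refine ⟨T', p, y, ?_, ?_, ?_, ?_⟩
  · change Flat (pullback.fst x.left q.left); infer_instance
  · change Surjective (pullback.fst x.left q.left); infer_instance
  · change QuasiCompact (pullback.fst x.left q.left); infer_instance
  · ext1
    exact pullback.condition

/-- The quasi-compactness of a homomorphism from a quasi-compact scheme to a group scheme over a field. -/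
theorem quasiCompact_left {S : Scheme.{u}} {C A : Over S} (f : C ⟶ A) [QuasiCompact C.hom] [QuasiSeparated A.hom] :
    QuasiCompact f.left := by
  have : QuasiCompact (f.left ≫ A.hom) := by rw [Over.w]; infer_instance
  exact QuasiCompact.of_comp f.left A.hom

end K400.Basic
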