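import Groth.Agent.AlgGrp.K400.Cob
import Groth.Agent.AlgGrp.K400.Basic
import Groth.Agent.NonAbH1.K551.Tors
import Groth.Agent.Sga3.H821.ExtAffine
import Groth.Agent.Sga3.H783.GaGm
import Groth.Agent.Flat2D.LfpComp

/-!
# Torsors under extensions over a field

`0 → N → G → Q → 0` group schemes over a field `K`, `N`, `Q` affine.  If every `Q`-valued cocycle along an affine
flat cover is a coboundary and every torsor under `N` is trivial, then every torsor under `G` is trivial.
-/

set_option autoImplicit false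
universe u

open CategoryTheory MonoidalCategory CartesianMonoidalCategory MonObj GrpObj AlgebraicGeometry Limits

namespace K400.TorsExt

open Groth.Agent.Books.BorelOrb K551.Tors K400.Basic

section general

variable {S : Scheme.{u}}

/-- An action from a map which is an action on points. -/
noncomputable def mkAction {Q X : Over S} [GrpObj Q] (act : Q ⊗ X ⟶ X)
    (h1 : ∀ {T : Over S} (x : T ⟶ X), lift (1 : T ⟶ Q) x ≫ act = x)
    (h2 : ∀ {T : Over S} (g h : T ⟶ Q) (x : T ⟶ X), lift (g * h) x ≫ act = lift g (lift h x ≫ act) ≫ act) :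
    AlgGrp.Action Q X where
  act := act
  one_act := by
    have e : (η[Q] ▷ X : 𝟙_ (Over S) ⊗ X ⟶ Q ⊗ X) = lift 1 (snd _ _) := by
      apply CartesianMonoidalCategory.hom_ext
      · rw [whiskerRight_fst, lift_fst, Hom.one_def]
        congr 1
      · rw [whiskerRight_snd, lift_snd]
    rw [e, h1]
    exact (leftUnitor_hom X).symm
  mul_act := by
    have e : (μ[Q] ▷ X : (Q ⊗ Q) ⊗ X ⟶ Q ⊗ X) =
        lift ((fst _ _ ≫ fst _ _) * (fst _ _ ≫ snd _ _)) (snd _ _) := by
      apply CartesianMonoidalCategory.hom_ext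
      · rw [whiskerRight_fst, lift_fst, Hom.mul_def, ← comp_lift, lift_fst_snd, Category.comp_id]
      · rw [whiskerRight_snd, lift_snd]
    rw [e, h2, ← Category.assoc (α_ Q Q X).hom]
    congr 1
    apply CartesianMonoidalCategory.hom_ext
    · rw [lift_fst, Category.assoc, whiskerLeft_fst, associator_hom_fst]
    · rw [lift_snd, Category.assoc, whiskerLeft_snd, ← Category.assoc]
      congr 1
      apply CartesianMonoidalCategory.hom_ext
      · simp
      · simp

theorem mkAction_sm {Q X : Over S} [GrpObj Q] (act : Q ⊗ X ⟶ X)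
    (h1 : ∀ {T : Over S} (x : T ⟶ X), lift (1 : T ⟶ Q) x ≫ act = x)
    (h2 : ∀ {T : Over S} (g h : T ⟶ Q) (x : T ⟶ X), lift (g * h) x ≫ act = lift g (lift h x ≫ act) ≫ act)
    {T : Over S} (g : T ⟶ Q) (x : T ⟶ X) : sm (mkAction act h1 h2) g x = lift g x ≫ act := rfl

/-- `Q`-valued cocycles along affine flat coverings are coboundaries. -/
def CobProp (Q : Over S) [GrpObj Q] : Prop :=
  ∀ (P : Over S) [Flat P.hom] [Surjective P.hom] [IsAffineHom P.hom] (δ : P ⊗ P ⟶ Q),
    (∀ (T : Over S) (x y z : T ⟶ P), (lift x y ≫ δ) * (lift y z ≫ δ) = lift x z ≫ δ) →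
    ∃ f : P ⟶ Q, ∀ (T : Over S) (x y : T ⟶ P), x ≫ f = (lift x y ≫ δ) * (y ≫ f)

theorem CobProp.of_iso {Q R : Over S} [GrpObj Q] [GrpObj R] (e : Grp.mk Q ≅ Grp.mk R) (h : CobProp R) :
    CobProp Q := by
  intro P _ _ _ δ hδ
  let φ : Q ⟶ R := e.hom.hom.hom
  let ψ : R ⟶ Q := e.inv.hom.hom
  have hφψ : φ ≫ ψ = 𝟙 Q := by
    have := congrArg (fun t => t.hom.hom) e.hom_inv_id
    exact this
  have : IsMonHom φ := e.hom.hom.isMonHom_hom
  have : IsMonHom ψ := e.inv.hom.isMonHom_hom
  obtain ⟨f, hf⟩ := h P (δ ≫ φ) (by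
    intro T x y z
    rw [← Category.assoc, ← Category.assoc, ← Category.assoc, ← MonObj.mul_comp, hδ])
  refine ⟨f ≫ ψ, fun T x y => ?_⟩
  have h1 := congrArg (fun t => t ≫ ψ) (hf T x y)
  simp only [MonObj.mul_comp, Category.assoc, hφψ, Category.comp_id] at h1
  exact h1

variable {N G Q : Over S} [GrpObj N] [GrpObj G] [GrpObj Q] {i : N ⟶ G} [IsMonHom i] {q : G ⟶ Q} [IsMonHom q]

/-- The reduction of a torsor along an extension. -/
theorem exists_reduction [Flat q.left] [Surjective q.left] [QuasiCompact q.left] (hker : AlgGrp.IsKernel i q)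
    {P : Over S} (a : AlgGrp.Action G P) (ha : NonAbH1.IsPseudoTorsorSch a) [Nonempty P.left] (f : P ⟶ Q)
    (hf : ∀ (T : Over S) (x y : T ⟶ P), x ≫ f = (dif ha x y ≫ q) * (y ≫ f)) :
    ∃ (P' : Over S) (j : P' ⟶ P) (a' : AlgGrp.Action N P'), Nonempty P'.left ∧ NonAbH1.IsPseudoTorsorSch a' := by
  have hsm : ∀ (T : Over S) (g : T ⟶ G) (x : T ⟶ P), sm a g x ≫ f = (g ≫ q) * (x ≫ f) := by
    intro T g x
    rw [hf T (sm a g x) x, dif_sm_left, dif_self, _root_.mul_one]
  let P' : Over S := pullback f η[Q]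
  let j : P' ⟶ P := pullback.fst f η[Q]
  have hj : ∀ (T : Over S) (x : T ⟶ P'), (x ≫ j) ≫ f = 1 := by
    intro T x
    rw [Category.assoc]
    change x ≫ (pullback.fst f η[Q] ≫ f) = 1
    rw [pullback.condition, ← Category.assoc, toUnit_unique (x ≫ pullback.snd f η[Q]) (toUnit T)]
    rfl
  have hl : ∀ (T : Over S) (x : T ⟶ P), x ≫ f = 1 → ∃ y : T ⟶ P', y ≫ j = x := fun T x hx =>
    ⟨pullback.lift x (toUnit T) (by rw [hx]; rfl), pullback.lift_fst _ _ _⟩
  have hmono : Mono j := by
    constructor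
    intro T x y hxy
    apply pullback.hom_ext hxy
    exact toUnit_unique _ _
  have himono : Mono i := kernel_mono hker
  obtain ⟨act, hact⟩ := hl (N ⊗ P') (sm a (fst N P' ≫ i) (snd N P' ≫ j)) (by
    rw [hsm, kernel_comp hker, hj, _root_.one_mul])
  have hact' : ∀ {T : Over S} (n : T ⟶ N) (x : T ⟶ P'), (lift n x ≫ act) ≫ j = sm a (n ≫ i) (x ≫ j) := by
    intro T n x
    rw [Category.assoc, hact, comp_sm, ← Category.assoc, ← Category.assoc, lift_fst, lift_snd]
  let a' : AlgGrp.Action N P' := mkAction act (fun x => by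
      rw [← cancel_mono j, hact', MonObj.one_comp, one_sm]) (fun g h x => by
      rw [← cancel_mono j, hact', hact', hact', MonObj.mul_comp, mul_sm])
  refine ⟨P', j, a', ?_, isPseudoTorsorSch_of_points a' ?_⟩
  · obtain ⟨p⟩ := ‹Nonempty P.left›
    let T0 : Over S := Over.mk (P.left.fromSpecResidueField p ≫ P.hom)
    let x0 : T0 ⟶ P := Over.homMk (P.left.fromSpecResidueField p) rfl
    have hT0 : Nonempty T0.left := inferInstanceAs (Nonempty (Spec (P.left.residueField p)))
    obtain ⟨T1, p1, g, h1, h2, h3, h4⟩ := exists_local_lift q (x0 ≫ f)⁻¹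
    have hx : sm a g (p1 ≫ x0) ≫ f = 1 := by
      rw [hsm, ← h4, GrpObj.comp_inv, Category.assoc, inv_mul_cancel]
    obtain ⟨y, -⟩ := hl T1 _ hx
    have hT1 : Nonempty T1.left := by
      obtain ⟨t⟩ := hT0
      obtain ⟨t', -⟩ := p1.left.surjective t
      exact ⟨t'⟩
    exact hT1.map y.left
  · intro T x x'
    have h1 : dif ha (x ≫ j) (x' ≫ j) ≫ q = 1 := by
      have h2 := hf T (x ≫ j) (x' ≫ j)
      rw [hj, hj, _root_.mul_one] at h2
      exact h2.symm
    obtain ⟨n, hn⟩ := (kernel_iff hker _).1 h1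
    refine ⟨n, ?_, fun n' hn' => ?_⟩
    · change lift n x' ≫ act = x
      rw [← cancel_mono j, hact', hn, sm_dif]
    · rw [← cancel_mono i, hn]
      refine (dif_eq ha ?_).symm
      rw [← hact']
      exact congrArg (· ≫ j) hn'

end general

section field

variable (K : Type u) [Field K]

/-- Every nonempty pseudo-torsor under `G` has a section. -/
def TorProp {S : Scheme.{u}} (G : Over S) [GrpObj G] : Prop :=
  ∀ (P : Over S) (a : AlgGrp.Action G P), Nonempty P.left → NonAbH1.IsPseudoTorsorSch a →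
    Nonempty (𝟙_ (Over S) ⟶ P)

theorem flat_field (X : Scheme.{u}) (f : X ⟶ Spec (CommRingCat.of K)) : Flat f := by
  infer_instance

theorem surjective_field (X : Scheme.{u}) [Nonempty X] (f : X ⟶ Spec (CommRingCat.of K)) : Surjective f := by
  constructor
  intro y
  obtain ⟨x⟩ := ‹Nonempty X›
  exact ⟨x, Subsingleton.elim _ _⟩

variable {K}

/-- A nonempty pseudo-torsor under an affine group over a field is affine. -/
theorem isAffineHom_of_pseudoTorsor {G P : Over (Spec (CommRingCat.of K))} [GrpObj G] [IsAffineHom G.hom]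
    (a : AlgGrp.Action G P) (ha : NonAbH1.IsPseudoTorsorSch a) [Nonempty P.left] : IsAffineHom P.hom := by
  obtain ⟨p⟩ := ‹Nonempty P.left›
  let c : Spec (P.left.residueField p) ⟶ Spec (CommRingCat.of K) := P.left.fromSpecResidueField p ≫ P.hom
  have h1 : Flat c := flat_field K _ c
  have h2 : Surjective c := surjective_field K _ c
  obtain ⟨e⟩ := nonempty_iso_bc ha c ⟨P.left.fromSpecResidueField p, rfl⟩
  have h3 : IsAffineHom (Red.bc c G).hom := MorphismProperty.pullback_snd (P := @IsAffineHom) _ _ ‹_›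
  have h4 : IsAffineHom (Red.bc c P).hom := by
    have h5 : e.inv.left ≫ (Red.bc c G).hom = (Red.bc c P).hom := Over.w e.inv
    rw [← h5]
    have h6 : IsIso e.inv.left := inferInstanceAs (IsIso ((Over.forget _).map e.inv))
    infer_instance
  exact MorphismProperty.of_pullback_snd_of_descendsAlong (P := @IsAffineHom)
    (Q := @Surjective ⊓ @Flat ⊓ @QuasiCompact) (f := P.hom) (g := c)
    ⟨⟨h2, h1⟩, inferInstance⟩ h4

/-- The quotient map by an affine group over a field is affine. -/
theorem isAffineHom_quotient {N G Q : Over (Spec (CommRingCat.of K))} [GrpObj G] [GrpObj Q] (i : N ⟶ G)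
    (q : G ⟶ Q) [IsMonHom q] [LocallyOfFiniteType G.hom] [LocallyOfFiniteType Q.hom] [Flat q.left]
    [Surjective q.left] (hker : AlgGrp.IsKernel i q) [IsAffineHom N.hom] : IsAffineHom q.left := by
  obtain ⟨d, hd⟩ := Groth.Agent.Sga3C.KerSquare.isPullback_fst_ker q
  let e := Groth.Agent.Sga3.H821.ExtAffine.kerIso q i hker
  have hI : IsIso e.inv.left := inferInstanceAs (IsIso ((Over.forget _).mapIso e).inv)
  have hK : IsAffineHom (Groth.Agent.Sga3B.KerGrp.kerObj q).hom := by
    rw [← Over.w e.inv]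
    infer_instance
  have h1 : IsAffineHom (pullback.fst q.left q.left) :=
    MorphismProperty.of_isPullback (P := @IsAffineHom) hd.flip hK
  have h2 : IsAffineHom (pullback.snd q.left q.left) := by
    rw [← pullbackSymmetry_hom_comp_fst]
    infer_instance
  have h3 : LocallyOfFinitePresentation q.left := by
    have h4 : LocallyOfFiniteType (q.left ≫ Q.hom) := by rw [Over.w]; infer_instance
    have h5 : LocallyOfFinitePresentation (q.left ≫ Q.hom) := by
      rw [Over.w]
      have : IsLocallyNoetherian (Spec (CommRingCat.of K)) := inferInstance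
      infer_instance
    exact Groth.Agent.Flat2D.LfpComp.lfp_of_comp q.left Q.hom
  exact MorphismProperty.of_pullback_snd_of_descendsAlong
    (Q := @Surjective ⊓ @Flat ⊓ @LocallyOfFinitePresentation) (g := q.left)
    ⟨⟨inferInstance, inferInstance⟩, inferInstance⟩ h2

/-- Triviality of torsors passes to extensions. -/
theorem TorProp.ext {N G Q : Over (Spec (CommRingCat.of K))} [GrpObj N] [GrpObj G] [GrpObj Q] (i : N ⟶ G)
    [IsMonHom i] (q : G ⟶ Q) [IsMonHom q] [Flat q.left] [Surjective q.left] [IsAffineHom q.left]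
    (hker : AlgGrp.IsKernel i q) [IsAffineHom G.hom] (hQ : CobProp Q) (hN : TorProp N) : TorProp G := by
  intro P a hP ha
  have h1 : IsAffineHom P.hom := isAffineHom_of_pseudoTorsor a ha
  have h2 : Flat P.hom := flat_field K _ _
  have h3 : Surjective P.hom := surjective_field K _ _
  obtain ⟨f, hf⟩ := hQ P (dif ha (fst P P) (snd P P) ≫ q) (by
    intro T x y z
    simp only [← Category.assoc, comp_dif, lift_fst, lift_snd]
    rw [← MonObj.mul_comp, dif_mul_dif])
  obtain ⟨P', j, a', h4, h5⟩ := exists_reduction hker a ha f (by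
    intro T x y
    rw [hf T x y]
    simp only [← Category.assoc, comp_dif, lift_fst, lift_snd])
  obtain ⟨s⟩ := hN P' a' h4 h5
  exact ⟨s ≫ j⟩

/-- Torsors under the trivial group are trivial. -/
theorem TorProp.of_trivial {G : Over (Spec (CommRingCat.of K))} [GrpObj G] (hG : IsIso G.hom) : TorProp G := by
  intro P a hP ha
  have h1 : ∀ (T : Over (Spec (CommRingCat.of K))) (x y : T ⟶ G), x = y := by
    intro T x y
    ext1
    rw [← cancel_mono G.hom, Over.w, Over.w]
  have h2 : Mono (toUnit P) := by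
    constructor
    intro T x y _
    rw [← sm_dif ha x y, h1 T (dif ha x y) 1, one_sm]
  obtain ⟨p⟩ := hP
  let T0 : Over (Spec (CommRingCat.of K)) := Over.mk (P.left.fromSpecResidueField p ≫ P.hom)
  let x0 : T0 ⟶ P := Over.homMk (P.left.fromSpecResidueField p) rfl
  have hT0 : Nonempty T0.left := inferInstanceAs (Nonempty (Spec (P.left.residueField p)))
  have e1 : (toUnit T0).left = T0.hom := by
    have := Over.w (toUnit T0)
    rw [← this]
    exact (Category.comp_id _).symm
  have h3 : Flat (toUnit T0).left := by rw [e1]; exact flat_field K _ _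
  have h4 : Surjective (toUnit T0).left := by rw [e1]; exact surjective_field K _ _
  have h5 : QuasiCompact (toUnit T0).left := by
    rw [e1]
    change QuasiCompact (P.left.fromSpecResidueField p ≫ P.hom)
    infer_instance
  have h6 := isIso_of_cover (toUnit P) (toUnit T0) x0 (toUnit_unique _ _)
  exact ⟨inv (toUnit P)⟩

theorem cobProp_ga : CobProp (Red.Ga (Spec (CommRingCat.of K))) := by
  intro P _ _ _ δ hδ
  exact K400.Cob.exists_ga (isAffineOpen_top _) δ hδ

theorem cobProp_gm : CobProp (Red.Gm (Spec (CommRingCat.of K))) := by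
  intro P _ _ _ δ hδ
  exact K400.Cob.exists_gm δ hδ

end field

end K400.TorsExt
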